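import Mathlib

namespace PolyHeightLib

open Polynomial Ideal IsLocalization

universe u

set_option backward.isDefEq.respectTransparency false in
attribute [local instance] Polynomial.algebra Polynomial.isLocalization in
theorem height_eq_one_of_comap_eq_bot {D : Type u} [CommRing D] [IsDomain D] [IsNoetherianRing D]
    (P : Ideal D[X]) [P.IsPrime] (hP : P ≠ ⊥) (hc : P.comap (C : D →+* D[X]) = ⊥) :
    P.height = 1 := by
  let K := FractionRing D
  have disj : Disjoint ((nonZeroDivisors D).map C : Set D[X]) P := by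
    refine Set.disjoint_left.mpr fun a ⟨b, hb, hba⟩ ha ↦ ?_
    have : b ∈ P.comap C := by rw [Ideal.mem_comap, hba]; exact ha
    rw [hc, Ideal.mem_bot] at this
    exact nonZeroDivisors.ne_zero hb this
  let P' : Ideal K[X] := P.map (algebraMap D[X] K[X])
  have hprime : P'.IsPrime :=
    IsLocalization.isPrime_of_isPrime_disjoint ((nonZeroDivisors D).map C) _ _ inferInstance disj
  rw [← IsLocalization.height_map_of_disjoint ((nonZeroDivisors D).map C) P disj (S := K[X])]
  have hne : P' ≠ ⊥ := by
    intro h
    apply hP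
    rw [eq_bot_iff]
    intro f hf
    have h2 : algebraMap D[X] K[X] f ∈ P' := Ideal.mem_map_of_mem _ hf
    rw [h, Ideal.mem_bot] at h2
    rw [Ideal.mem_bot]
    have h3 : Function.Injective (algebraMap D[X] K[X]) :=
      Polynomial.map_injective _ (IsFractionRing.injective D K)
    exact h3 (h2.trans (map_zero _).symm)
  haveI : P'.IsMaximal := Ideal.IsPrime.isMaximal hprime hne
  exact IsPrincipalIdealRing.height_eq_one_of_isMaximal P' (Polynomial.not_isField K)

variable {A : Type u} [CommRing A] [IsNoetherianRing A] (p : Ideal A) [p.IsPrime]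

theorem height_map_C : (p.map (C : A →+* A[X])).height = p.height := by
  haveI : (p.map (C : A →+* A[X])).IsPrime := Ideal.isPrime_map_C_of_isPrime
  haveI : (p.map (C : A →+* A[X])).LiesOver p := ⟨by
    ext a
    rw [Ideal.mem_comap, Polynomial.algebraMap_eq, Ideal.mem_map_C_iff]
    constructor
    · intro h n
      rw [Polynomial.coeff_C]; split_ifs
      exacts [h, zero_mem _]
    · intro h; simpa using h 0⟩
  rw [height_eq_height_add_of_liesOver_of_hasGoingDown p (p.map (C : A →+* A[X]))]
  rw [Polynomial.algebraMap_eq, Ideal.map_quotient_self, Ideal.height_bot, add_zero]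

theorem height_of_ne (q : Ideal A[X]) [q.IsPrime] [q.LiesOver p]
    (h : q ≠ p.map (C : A →+* A[X])) : q.height = p.height + 1 := by
  rw [height_eq_height_add_of_liesOver_of_hasGoingDown p q]
  congr 1
  have hle : p.map (C : A →+* A[X]) ≤ q := by
    rw [Ideal.map_le_iff_le_comap]
    exact (Ideal.LiesOver.over (P := q) (p := p)).le
  let e := (polynomialQuotientEquivQuotientPolynomial p).symm
  have hQ : (q.map (Ideal.Quotient.mk (p.map (C : A →+* A[X])))).IsPrime :=
    Ideal.map_isPrime_of_surjective Quotient.mk_surjective (by rw [mk_ker]; exact hle)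
  let P := (q.map (Ideal.Quotient.mk (p.map (C : A →+* A[X])))).map e
  haveI : P.IsPrime := Ideal.map_isPrime_of_equiv e
  have key : P.height = 1 := by
    apply height_eq_one_of_comap_eq_bot P
    · intro hb
      apply h
      refine le_antisymm ?_ hle
      intro f hf
      have h2 : e (Ideal.Quotient.mk _ f) ∈ P :=
        Ideal.mem_map_of_mem _ (Ideal.mem_map_of_mem _ hf)
      rw [hb, Ideal.mem_bot, map_eq_zero_iff _ e.injective, Ideal.Quotient.eq_zero_iff_mem] at h2
      exact h2
    · rw [eq_bot_iff]
      intro a ha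
      obtain ⟨a, rfl⟩ := Ideal.Quotient.mk_surjective a
      rw [Ideal.mem_bot, Ideal.Quotient.eq_zero_iff_mem]
      have h1 : C (Ideal.Quotient.mk p a) = e (Ideal.Quotient.mk _ (C a)) := by
        simp only [e, polynomialQuotientEquivQuotientPolynomial_symm_mk, map_C]
      rw [Ideal.mem_comap, h1] at ha
      obtain ⟨y, hy, hye⟩ := (Ideal.mem_map_iff_of_surjective _ e.surjective).1 ha
      rw [e.injective hye] at hy
      obtain ⟨z, hz, hzy⟩ :=
        (Ideal.mem_map_iff_of_surjective _ Ideal.Quotient.mk_surjective).1 hy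
      rw [Ideal.Quotient.eq] at hzy
      have : C a ∈ q := by simpa using sub_mem hz (hle hzy)
      rw [Ideal.LiesOver.over (P := q) (p := p)]
      exact this
  rw [← key, Polynomial.algebraMap_eq]
  exact (e.height_map _).symm

omit [IsNoetherianRing A] in
theorem aeval_mk (q : Ideal A[X]) [q.LiesOver p] (f : A[X]) :
    Polynomial.aeval (R := A ⧸ p) (Ideal.Quotient.mk q X) (f.map (Ideal.Quotient.mk p)) =
      Ideal.Quotient.mk q f := by
  induction f using Polynomial.induction_on' with
  | add f g hf hg => simp only [Polynomial.map_add, map_add, hf, hg]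
  | monomial n a =>
    rw [Polynomial.map_monomial, Polynomial.aeval_monomial, ← map_pow, ← C_mul_X_pow_eq_monomial,
      map_mul]
    rfl

omit [IsNoetherianRing A] in
theorem trdeg_of_ne (q : Ideal A[X]) [q.IsPrime] [q.LiesOver p]
    (h : q ≠ p.map (C : A →+* A[X])) : Algebra.trdeg (A ⧸ p) (A[X] ⧸ q) = 0 := by
  have hle : p.map (C : A →+* A[X]) ≤ q := by
    rw [Ideal.map_le_iff_le_comap]
    exact (Ideal.LiesOver.over (P := q) (p := p)).le
  obtain ⟨f, hf, hf'⟩ := SetLike.exists_of_lt (lt_of_le_of_ne hle (Ne.symm h))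
  have halg : IsAlgebraic (A ⧸ p) (Ideal.Quotient.mk q X) := by
    refine ⟨f.map (Ideal.Quotient.mk p), ?_, ?_⟩
    · intro h0
      apply hf'
      rw [Ideal.mem_map_C_iff]
      intro n
      rw [← Ideal.Quotient.eq_zero_iff_mem, ← Polynomial.coeff_map, h0, coeff_zero]
    · rw [aeval_mk, Ideal.Quotient.eq_zero_iff_mem]; exact hf
  haveI : Algebra.IsAlgebraic (A ⧸ p) (A[X] ⧸ q) := by
    refine ⟨fun y => ?_⟩
    obtain ⟨g, rfl⟩ := Ideal.Quotient.mk_surjective y
    induction g using Polynomial.induction_on' with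
    | add f g hf hg => rw [map_add]; exact hf.add hg
    | monomial n a =>
      rw [← C_mul_X_pow_eq_monomial, map_mul, map_pow]
      exact (isAlgebraic_algebraMap (Ideal.Quotient.mk p a)).mul (halg.pow n)
  exact trdeg_eq_zero

omit [IsNoetherianRing A] in
theorem trdeg_of_eq (q : Ideal A[X]) [q.IsPrime] [q.LiesOver p]
    (h : q = p.map (C : A →+* A[X])) : Algebra.trdeg (A ⧸ p) (A[X] ⧸ q) = 1 := by
  let φ := Polynomial.aeval (R := A ⧸ p) (Ideal.Quotient.mk q X)
  have hbij : Function.Bijective φ := by
    constructor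
    · rw [injective_iff_map_eq_zero]
      intro g hg
      obtain ⟨f, rfl⟩ := Polynomial.map_surjective _ Ideal.Quotient.mk_surjective g
      simp only [φ, aeval_mk, Ideal.Quotient.eq_zero_iff_mem] at hg
      rw [h, Ideal.mem_map_C_iff] at hg
      ext n
      rw [Polynomial.coeff_map, coeff_zero, Ideal.Quotient.eq_zero_iff_mem]
      exact hg n
    · intro y
      obtain ⟨g, rfl⟩ := Ideal.Quotient.mk_surjective y
      exact ⟨g.map (Ideal.Quotient.mk p), aeval_mk p q g⟩
  rw [← (AlgEquiv.ofBijective φ hbij).trdeg_eq, Polynomial.trdeg_of_isDomain]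

end PolyHeightLib
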